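import Mathlib
import Groth.Agent.H2.FZ_E1
import Groth.Agent.H34.Fitting3
import Groth.Agent.H34.Fitting2
import Groth.Agent.S12084
import Groth.Prelude.Def_FlatCA

/-! Assembly for S1291: `Fitt_0^A(C/J) · C_h = J C_h · J'`. -/

set_option autoImplicit false
universe u

namespace Groth.Agent.H13.FZ
open TensorProduct Groth.Agent.H34

theorem fittingZero_eq (R : Type u) [CommRing R] (M : Type u) [AddCommGroup M] [Module R M] :
    FlatCA.fittingZero R M = Fitt.ideal R M 0 := by
  unfold FlatCA.fittingZero Fitt.ideal
  congr 1
  ext d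
  constructor
  · rintro ⟨n, x, a, hx, hrel, rfl⟩
    exact ⟨n, x, a, hx, fun i _ => hrel i, rfl⟩
  · rintro ⟨n, x, a, hx, hrel, rfl⟩
    exact ⟨n, x, a, hx, fun i => hrel i (by simp), rfl⟩

theorem fitt_congr {R : Type u} [CommRing R] {M M' : Type u} [AddCommGroup M] [Module R M]
    [AddCommGroup M'] [Module R M'] (e : M ≃ₗ[R] M') (k : ℕ) :
    Fitt.ideal R M k = Fitt.ideal R M' k :=
  le_antisymm (Fit.fittIdeal_le_of_surjective e.toLinearMap e.surjective k)
    (Fit.fittIdeal_le_of_surjective e.symm.toLinearMap e.symm.surjective k)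

/-- A split surjection gives a product decomposition. -/
noncomputable def splitEquiv {R : Type u} [CommRing R] {N Q : Type u} [AddCommGroup N] [Module R N]
    [AddCommGroup Q] [Module R Q] (α : N →ₗ[R] Q) (σ : Q →ₗ[R] N)
    (hασ : α ∘ₗ σ = LinearMap.id) : N ≃ₗ[R] Q × LinearMap.ker α :=
  have h1 : ∀ y, α (σ y) = y := fun y => LinearMap.congr_fun hασ y
  LinearEquiv.ofLinearMap
    (α.prod (LinearMap.codRestrict (LinearMap.ker α) (LinearMap.id - σ ∘ₗ α) (fun x => by
      simp [LinearMap.mem_ker, h1])))
    (σ.coprod (LinearMap.ker α).subtype)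
    (by
      apply LinearMap.ext
      rintro ⟨y, k⟩
      apply Prod.ext
      · simp [h1]
      · apply Subtype.ext
        simp [h1])
    (by
      apply LinearMap.ext
      intro x
      simp)


theorem main {A C : Type u} [CommRing A] [CommRing C] [Algebra A C] [Module.Finite A C]
    [Module.Projective A C] (h : C) [Algebra.Etale A (Localization.Away h)] (J : Ideal C) :
    ∃ J' : Ideal (Localization.Away h),
      (Fitt.ideal A (C ⧸ J) 0).map (algebraMap A (Localization.Away h)) =
        J.map (algebraMap C (Localization.Away h)) * J' ∧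
      (J.FG → (Fitt.ideal A (C ⧸ J) 0).FG ∧ J'.FG) := by
  classical
  obtain ⟨e, he1, he2⟩ := Groth.Agent.H2.FZ.exists_sep_elem (A := A) h
  let ψ : C →ₐ[A] Localization.Away h := IsScalarTower.toAlgHom A C (Localization.Away h)
  set JCh : Ideal (Localization.Away h) := J.map (algebraMap C (Localization.Away h)) with hJCh
  let μ : Localization.Away h ⊗[A] C →ₐ[Localization.Away h] Localization.Away h :=
    Algebra.TensorProduct.lift (AlgHom.id (Localization.Away h) (Localization.Away h)) ψ
      (fun _ _ => Commute.all _ _)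
  let q : Localization.Away h ⊗[A] C →ₐ[Localization.Away h] Localization.Away h ⊗[A] (C ⧸ J) :=
    Algebra.TensorProduct.map (AlgHom.id (Localization.Away h) (Localization.Away h))
      (Ideal.Quotient.mkₐ A J)
  let g : (C ⧸ J) →ₐ[A] (Localization.Away h ⧸ JCh) :=
    Ideal.quotientMapₐ JCh ψ
      (fun x hx => Ideal.mem_map_of_mem (algebraMap C (Localization.Away h)) hx)
  let α : Localization.Away h ⊗[A] (C ⧸ J) →ₗ[Localization.Away h] (Localization.Away h ⧸ JCh) :=
    g.toLinearMap.liftBaseChange (Localization.Away h)
  have hαq : ∀ t, α (q t) = Ideal.Quotient.mk JCh (μ t) := by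
    intro t
    induction t using TensorProduct.induction_on with
    | zero => simp
    | tmul a c =>
      simp only [α, q, μ, g, ψ, Algebra.TensorProduct.map_tmul, AlgHom.coe_id, id_eq,
        LinearMap.liftBaseChange_tmul, AlgHom.toLinearMap_apply, Ideal.Quotient.mkₐ_eq_mk,
        Algebra.TensorProduct.lift_tmul, map_mul]
      rw [← map_mul]
      rfl
    | add x y hx hy => simp only [map_add, hx, hy]
  have hsm : ∀ (x : Localization.Away h) (t : Localization.Away h ⊗[A] C),
      x • t = (x ⊗ₜ[A] (1 : C)) * t := by
    intro x t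
    induction t using TensorProduct.induction_on with
    | zero => simp
    | tmul a c => simp [smul_tmul']
    | add y z hy hz => rw [smul_add, mul_add, hy, hz]
  let σ₀ : Localization.Away h →ₗ[Localization.Away h] Localization.Away h ⊗[A] (C ⧸ J) :=
    LinearMap.toSpanSingleton (Localization.Away h) _ (q e)
  have hker : JCh ≤ LinearMap.ker σ₀ := by
    rw [hJCh, Ideal.map, Ideal.span_le]
    rintro _ ⟨j, hj, rfl⟩
    show σ₀ (algebraMap C (Localization.Away h) j) = 0
    have h1 : algebraMap C (Localization.Away h) j • q e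
        = q ((algebraMap C (Localization.Away h) j ⊗ₜ[A] (1 : C)) * e) := by
      rw [← hsm, map_smul]
    have h2 : q ((1 : Localization.Away h) ⊗ₜ[A] j) = 0 := by
      simp only [q, Algebra.TensorProduct.map_tmul, Ideal.Quotient.mkₐ_eq_mk]
      rw [Ideal.Quotient.eq_zero_iff_mem.mpr hj, tmul_zero]
    show (algebraMap C (Localization.Away h) j) • q e = 0
    rw [h1, ← he2 j, map_mul, h2, zero_mul]
  let σ : (Localization.Away h ⧸ JCh) →ₗ[Localization.Away h] Localization.Away h ⊗[A] (C ⧸ J) :=
    Submodule.liftQ JCh σ₀ hker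
  have hασ : α ∘ₗ σ = LinearMap.id := by
    apply Submodule.linearMap_qext
    apply LinearMap.ext_ring
    show α (σ₀ 1) = Ideal.Quotient.mk JCh 1
    have : σ₀ 1 = q e := by simp [σ₀]
    rw [this, hαq, he1]
  let E := splitEquiv α σ hασ
  haveI hfinQ : Module.Finite A (C ⧸ J) :=
    Module.Finite.of_surjective (Ideal.Quotient.mkₐ A J).toLinearMap Ideal.Quotient.mk_surjective
  haveI hfinK : Module.Finite (Localization.Away h) (LinearMap.ker α) :=
    Module.Finite.of_surjective
      ((LinearMap.snd (Localization.Away h) (Localization.Away h ⧸ JCh) (LinearMap.ker α)) ∘ₗ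
        E.toLinearMap)
      (fun k => ⟨E.symm (0, k), by simp⟩)
  refine ⟨Fitt.ideal (Localization.Away h) (LinearMap.ker α) 0, ?_, ?_⟩
  · rw [← Fit.fittIdeal_baseChange (Localization.Away h) 0, fitt_congr (M' := (Localization.Away h ⧸ JCh) × LinearMap.ker α) E 0,
      Groth.Agent.S12084.result]
    simp [Fit.fittIdeal_zero_quotient]
  · intro hJ
    haveI hfpC : Module.FinitePresentation A C := Module.finitePresentation_of_projective A C
    haveI hfp : Module.FinitePresentation A (C ⧸ J) := by
      refine Module.finitePresentation_of_surjective (Ideal.Quotient.mkₐ A J).toLinearMap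
        Ideal.Quotient.mk_surjective ?_
      have hk : LinearMap.ker (Ideal.Quotient.mkₐ A J).toLinearMap = J.restrictScalars A := by
        ext x
        simp [Ideal.Quotient.eq_zero_iff_mem]
      rw [hk]
      haveI : Module.Finite C J := Module.Finite.iff_fg.mpr hJ
      haveI : Module.Finite A J := Module.Finite.trans C J
      exact Module.Finite.iff_fg.mp (by assumption)
    refine ⟨Fit.fittIdeal_fg 0, ?_⟩
    haveI : Module.FinitePresentation (Localization.Away h) (Localization.Away h ⊗[A] (C ⧸ J)) :=
      inferInstance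
    haveI : Module.FinitePresentation (Localization.Away h)
        ((Localization.Away h ⧸ JCh) × LinearMap.ker α) :=
      Module.FinitePresentation.of_equiv (N := (Localization.Away h ⧸ JCh) × LinearMap.ker α) E
    haveI : Module.FinitePresentation (Localization.Away h) (LinearMap.ker α) := by
      refine Module.finitePresentation_of_surjective
        (M := (Localization.Away h ⧸ JCh) × LinearMap.ker α) (N := LinearMap.ker α)
        (LinearMap.snd (Localization.Away h) (Localization.Away h ⧸ JCh) (LinearMap.ker α))
        (fun k => ⟨(0, k), rfl⟩) ?_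
      rw [LinearMap.ker_snd, LinearMap.range_eq_map]
      exact (Module.Finite.fg_top (R := Localization.Away h)
        (M := Localization.Away h ⧸ JCh)).map (LinearMap.inl _ _ _)
    exact Fit.fittIdeal_fg 0

end Groth.Agent.H13.FZ
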